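import Mathlib

/-!
# Groups that are central extensions of a finite abelian group by `kˣ`, and their weight one representations
-/

set_option autoImplicit false

universe u v

namespace Groth.Agent.ThetaRepLib

variable {k : Type u} [Field k] {Γ : Type u} [Group Γ] (ι : kˣ →* Γ)

/-- The hypotheses on a nondegenerate theta group. -/
structure Theta : Prop where
  inj : Function.Injective ι
  cent : ι.range = Subgroup.center Γ
  comm : commutator Γ ≤ ι.range

namespace Theta

variable {ι} (T : Theta ι)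

include T in
theorem normal : ι.range.Normal := T.cent ▸ inferInstance

include T in
theorem central (z : kˣ) (x : Γ) : x * ι z = ι z * x := by
  have h : ι z ∈ Subgroup.center Γ := T.cent ▸ ⟨z, rfl⟩
  exact Subgroup.mem_center_iff.1 h x

include T in
theorem exists_pair (a b : Γ) : ∃ z : kˣ, a * b = b * a * ι z := by
  obtain ⟨z, hz⟩ := T.comm (Subgroup.commutator_mem_commutator (Subgroup.mem_top a⁻¹) (Subgroup.mem_top b⁻¹))
  refine ⟨z, ?_⟩
  rw [hz, commutatorElement_def]
  group

/-- The commutator pairing. -/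
noncomputable def pair (T : Theta ι) (a b : Γ) : kˣ := (T.exists_pair a b).choose

theorem pair_spec (a b : Γ) : a * b = b * a * ι (T.pair a b) := (T.exists_pair a b).choose_spec

theorem pair_eq {a b : Γ} {z : kˣ} (h : a * b = b * a * ι z) : T.pair a b = z :=
  T.inj (mul_left_cancel ((T.pair_spec a b).symm.trans h))

theorem pair_mul_left (a a' b : Γ) : T.pair (a * a') b = T.pair a b * T.pair a' b := by
  refine T.pair_eq ?_
  rw [mul_assoc a a' b, T.pair_spec a' b, ← mul_assoc, ← mul_assoc, T.pair_spec a b, map_mul,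
    mul_assoc (b * a) (ι (T.pair a b)) a', ← T.central (T.pair a b) a']
  group

theorem pair_eq_one_iff {a b : Γ} : T.pair a b = 1 ↔ a * b = b * a := by
  refine ⟨fun h => ?_, fun h => T.pair_eq (by rw [map_one, mul_one, h])⟩
  rw [T.pair_spec a b, h, map_one, mul_one]

include T in
/-- An element commuting with everything is a scalar. -/
theorem mem_range_of_forall_comm {a : Γ} (h : ∀ b, b * a = a * b) : a ∈ ι.range :=
  T.cent ▸ Subgroup.mem_center_iff.2 h

end Theta

/-! ### Representations of weight one -/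

section Rep

variable {ι} {W : Type u} [AddCommGroup W] [Module k W] (σ : Representation k Γ W)
  {V : Type u} [AddCommGroup V] [Module k V] (ρ : Representation k Γ V)

/-- Weight one. -/
def WeightOne (ι : kˣ →* Γ) (σ : Representation k Γ W) : Prop :=
  ∀ (z : kˣ) (w : W), σ (ι z) w = (z : k) • w

variable {σ ρ}

theorem rho_inv_apply (a : Γ) (v : W) : σ a⁻¹ (σ a v) = v := by
  rw [← Module.End.mul_apply, ← map_mul, inv_mul_cancel, map_one, Module.End.one_apply]

theorem rho_apply_inv (a : Γ) (v : W) : σ a (σ a⁻¹ v) = v := by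
  rw [← Module.End.mul_apply, ← map_mul, mul_inv_cancel, map_one, Module.End.one_apply]

theorem WeightOne.mul_iota (hσ : WeightOne ι σ) (a : Γ) (z : kˣ) : σ (a * ι z) = (z : k) • σ a := by
  ext v
  rw [map_mul, Module.End.mul_apply, hσ, map_smul, LinearMap.smul_apply]

theorem WeightOne.swap (T : Theta ι) (hσ : WeightOne ι σ) (a b : Γ) (v : W) :
    σ a (σ b v) = (T.pair a b : k) • σ b (σ a v) := by
  rw [← Module.End.mul_apply, ← map_mul, T.pair_spec a b, hσ.mul_iota, LinearMap.smul_apply, map_mul,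
    Module.End.mul_apply]

variable [Finite (Γ ⧸ ι.range)]

/-- Translates by coset representatives are linearly independent operators. -/
theorem WeightOne.linearIndependent (T : Theta ι) (hσ : WeightOne ι σ) [Nontrivial W] :
    LinearIndependent k (fun x : Γ ⧸ ι.range => σ x.out) := by
  classical
  rw [linearIndependent_iff']
  intro s
  induction s using Finset.induction_on with
  | empty => simp
  | @insert x₀ s hx₀ ih =>
    intro g hg
    have hrest : ∀ i ∈ s, g i = 0 := by
      intro i hi
      have hne : ∃ γ, T.pair γ i.out ≠ T.pair γ x₀.out := by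
        by_contra hcon
        push Not at hcon
        have hmem : x₀.out⁻¹ * i.out ∈ ι.range := by
          refine T.mem_range_of_forall_comm fun b => ?_
          have e1 := T.pair_spec b i.out
          have e2 := T.pair_spec b x₀.out
          rw [hcon b] at e1
          have h3 : x₀.out⁻¹ * b = b * x₀.out⁻¹ * ι (T.pair b x₀.out) := by
            have := congrArg (fun t => x₀.out⁻¹ * t * x₀.out⁻¹) e2
            simp only [mul_assoc, mul_inv_cancel, mul_one] at this
            rw [this, ← T.central (T.pair b x₀.out) (x₀.out⁻¹)]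
            group
          rw [mul_assoc x₀.out⁻¹ i.out b]
          calc b * (x₀.out⁻¹ * i.out) = b * x₀.out⁻¹ * i.out := by group
            _ = x₀.out⁻¹ * b * (ι (T.pair b x₀.out))⁻¹ * i.out := by rw [h3]; group
            _ = x₀.out⁻¹ * b * i.out * (ι (T.pair b x₀.out))⁻¹ := by
              rw [← map_inv, mul_assoc (x₀.out⁻¹ * b), ← T.central _ i.out]; group
            _ = x₀.out⁻¹ * (i.out * b) := by rw [mul_assoc x₀.out⁻¹ b, e1]; group
        have : i = x₀ := by
          rw [← i.out_eq', ← x₀.out_eq']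
          exact (QuotientGroup.eq.2 hmem).symm
        exact hx₀ (this ▸ hi)
      obtain ⟨γ, hγ⟩ := hne
      have h1 : ∑ j ∈ insert x₀ s, (g j * ((T.pair γ j.out : k) - T.pair γ x₀.out)) • σ j.out = 0 := by
        apply LinearMap.ext
        intro v
        obtain ⟨w, rfl⟩ : ∃ w, σ γ w = v := ⟨σ γ⁻¹ v, rho_apply_inv γ v⟩
        have ha : σ γ ((∑ j ∈ insert x₀ s, g j • σ j.out) w) = 0 := by rw [hg]; simp
        have hb : (∑ j ∈ insert x₀ s, g j • σ j.out) (σ γ w) = 0 := by rw [hg]; simp
        rw [LinearMap.sum_apply] at ha hb ⊢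
        simp only [LinearMap.smul_apply, map_sum, map_smul] at ha hb ⊢
        calc _ = ∑ j ∈ insert x₀ s, (g j • σ γ (σ j.out w) - (T.pair γ x₀.out : k) • (g j • σ j.out (σ γ w))) := by
              refine Finset.sum_congr rfl fun j _ => ?_
              rw [hσ.swap T γ j.out]
              module
          _ = 0 := by rw [Finset.sum_sub_distrib, ha, ← Finset.smul_sum, hb, smul_zero, sub_zero]
      rw [Finset.sum_insert hx₀, sub_self, mul_zero, zero_smul, zero_add] at h1
      exact (mul_eq_zero.1 (ih _ h1 i hi)).resolve_right (sub_ne_zero.2 fun h => hγ (Units.ext h))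
    intro i hi
    rcases Finset.mem_insert.1 hi with rfl | hi
    · rw [Finset.sum_insert hx₀, Finset.sum_eq_zero (fun j hj => by rw [hrest j hj, zero_smul]), add_zero] at hg
      refine (smul_eq_zero.1 hg).resolve_right fun h => ?_
      obtain ⟨v, hv⟩ := exists_ne (0 : W)
      apply hv
      rw [← rho_inv_apply (σ := σ) i.out v, h, LinearMap.zero_apply, map_zero]
    · exact hrest i hi

/-- The average of a linear map over the finite quotient. -/
noncomputable def avg (ρ : Representation k Γ V) (σ : Representation k Γ W) [Fintype (Γ ⧸ ι.range)]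
    (φ : V →ₗ[k] W) : V →ₗ[k] W :=
  ∑ x : Γ ⧸ ι.range, σ x.out ∘ₗ φ ∘ₗ ρ x.out⁻¹

theorem conj_congr (hρ : WeightOne ι ρ) (hσ : WeightOne ι σ) (φ : V →ₗ[k] W) {a b : Γ}
    (h : (a : Γ ⧸ ι.range) = b) : σ a ∘ₗ φ ∘ₗ ρ a⁻¹ = σ b ∘ₗ φ ∘ₗ ρ b⁻¹ := by
  obtain ⟨z, hz⟩ := QuotientGroup.eq.1 h
  obtain rfl : b = a * ι z := by rw [hz]; group
  have hinv : ∀ v, ρ (a * ι z)⁻¹ v = ((z⁻¹ : kˣ) : k) • ρ a⁻¹ v := by
    intro v
    rw [mul_inv_rev, ← map_inv, map_mul, Module.End.mul_apply, hρ]
  ext v
  simp only [LinearMap.comp_apply, hinv, map_smul, hσ.mul_iota, LinearMap.smul_apply, smul_smul]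
  rw [Units.inv_mul, one_smul]

theorem avg_comm [Fintype (Γ ⧸ ι.range)] (hρ : WeightOne ι ρ) (hσ : WeightOne ι σ) (φ : V →ₗ[k] W)
    (γ : Γ) (v : V) : avg (ι := ι) ρ σ φ (ρ γ v) = σ γ (avg (ι := ι) ρ σ φ v) := by
  simp only [avg, LinearMap.sum_apply, LinearMap.comp_apply, map_sum]
  refine (Fintype.sum_equiv (MulAction.toPerm γ) _ _ fun x => ?_).symm
  have h : ((γ * x.out : Γ) : Γ ⧸ ι.range) = ((γ • x).out : Γ) := by
    rw [QuotientGroup.out_eq']
    conv_rhs => rw [← x.out_eq']
    rfl
  have := LinearMap.congr_fun (conj_congr hρ hσ φ h) (ρ γ v)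
  simp only [LinearMap.comp_apply] at this
  rw [MulAction.toPerm_apply, ← this, map_mul, Module.End.mul_apply, mul_inv_rev, map_mul,
    Module.End.mul_apply, rho_inv_apply]

/-- Any two nonzero weight one representations admit a nonzero intertwiner. -/
theorem exists_avg_ne_zero [Fintype (Γ ⧸ ι.range)] (T : Theta ι) (hσ : WeightOne ι σ)
    [Nontrivial V] [Nontrivial W] : ∃ φ : V →ₗ[k] W, avg (ι := ι) ρ σ φ ≠ 0 := by
  by_contra hcon
  push Not at hcon
  obtain ⟨v, hv⟩ := exists_ne (0 : V)
  let x₀ : Γ ⧸ ι.range := ((1 : Γ) : Γ ⧸ ι.range)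
  have hv' : ρ x₀.out⁻¹ v ≠ 0 := fun h => hv (by rw [← rho_apply_inv (σ := ρ) x₀.out v, h, map_zero])
  obtain ⟨f, hf⟩ := Module.Projective.exists_dual_ne_zero k hv'
  have hsum : ∑ x : Γ ⧸ ι.range, f (ρ x.out⁻¹ v) • σ x.out = 0 := by
    ext w
    have := LinearMap.congr_fun (hcon (LinearMap.smulRight f w)) v
    simp only [avg, LinearMap.sum_apply, LinearMap.comp_apply, LinearMap.smulRight_apply, map_smul] at this
    simpa using this
  exact hf (Fintype.linearIndependent_iff.1 (hσ.linearIndependent T) _ hsum x₀)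

/-- Weight one representations are semisimple. -/
theorem isSemisimple (hσ : WeightOne ι σ) (hN : (Nat.card (Γ ⧸ ι.range) : k) ≠ 0) :
    σ.IsSemisimpleRepresentation := by
  haveI := Fintype.ofFinite (Γ ⧸ ι.range)
  refine ⟨fun p => ?_⟩
  obtain ⟨q, hq⟩ := p.toSubmodule.exists_isCompl
  let π : W →ₗ[k] W := Submodule.projection _ _ hq
  have hπmem : ∀ w, π w ∈ p.toSubmodule := fun w => Submodule.projection_apply_mem hq w
  have hπid : ∀ w ∈ p.toSubmodule, π w = w := fun w hw => Submodule.projection_apply_of_mem_left hq hw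
  let P : W →ₗ[k] W := (Nat.card (Γ ⧸ ι.range) : k)⁻¹ • avg (ι := ι) σ σ π
  have hPmem : ∀ w, P w ∈ p.toSubmodule := fun w => by
    simp only [P, LinearMap.smul_apply, avg, LinearMap.sum_apply, LinearMap.comp_apply]
    exact Submodule.smul_mem _ _ (Submodule.sum_mem _ fun x _ => p.apply_mem_toSubmodule _ (hπmem _))
  have hPid : ∀ w ∈ p.toSubmodule, P w = w := fun w hw => by
    have : ∀ x : Γ ⧸ ι.range, σ x.out (π (σ x.out⁻¹ w)) = w := fun x => by
      rw [hπid _ (p.apply_mem_toSubmodule _ hw), rho_apply_inv]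
    simp only [P, LinearMap.smul_apply, avg, LinearMap.sum_apply, LinearMap.comp_apply, this,
      Finset.sum_const, Finset.card_univ, ← Nat.card_eq_fintype_card]
    rw [← Nat.cast_smul_eq_nsmul k, smul_smul, inv_mul_cancel₀ hN, one_smul]
  refine ⟨⟨LinearMap.ker P, fun γ w hw => ?_⟩, ?_, ?_⟩
  · rw [LinearMap.mem_ker] at hw ⊢
    simp only [P, LinearMap.smul_apply] at hw ⊢
    rw [avg_comm hσ hσ, ← map_smul, hw, map_zero]
  · rw [disjoint_iff]
    refine Subrepresentation.toSubmodule_injective ?_
    rw [Subrepresentation.toSubmodule_inf]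
    exact eq_bot_iff.2 fun w hw => (hPid w hw.1).symm.trans hw.2
  · rw [codisjoint_iff]
    refine Subrepresentation.toSubmodule_injective ?_
    rw [Subrepresentation.toSubmodule_sup]
    refine eq_top_iff.2 fun w _ => Submodule.mem_sup.2 ⟨P w, hPmem w, w - P w, ?_, by abel⟩
    rw [LinearMap.mem_ker, map_sub, hPid _ (hPmem w), sub_self]

omit [Finite (Γ ⧸ ι.range)] in
/-- An invariant nonzero submodule of an irreducible representation is everything. -/
theorem eq_top_of_invariant (hirr : σ.IsIrreducible) (p : Submodule k W)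
    (hp : ∀ (γ : Γ), ∀ w ∈ p, σ γ w ∈ p) (hne : p ≠ ⊥) : p = ⊤ := by
  rcases hirr.eq_bot_or_eq_top (⟨p, hp⟩ : Subrepresentation σ) with h | h
  · exact absurd (congrArg Subrepresentation.toSubmodule h) hne
  · exact congrArg Subrepresentation.toSubmodule h

omit [Finite (Γ ⧸ ι.range)] in
theorem nontrivial_of_irreducible (hirr : σ.IsIrreducible) : Nontrivial W := by
  by_contra h
  rw [not_nontrivial_iff_subsingleton] at h
  haveI := hirr.toNontrivial
  obtain ⟨p, q, hpq⟩ := exists_pair_ne (Subrepresentation σ)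
  exact hpq (Subrepresentation.toSubmodule_injective (Subsingleton.elim _ _))

end Rep

/-! ### Cardinality -/

theorem natCast_ne_zero {n : ℕ} (hn : n ≠ 0) (h : n.Coprime (ringExpChar k)) {d : ℕ} (hd : d ∣ n) :
    (d : k) ≠ 0 := by
  intro h0
  rw [CharP.cast_eq_zero_iff k (ringChar k)] at h0
  rcases Nat.eq_zero_or_pos (ringChar k) with hp | hp
  · rw [hp, zero_dvd_iff] at h0
    exact hn (zero_dvd_iff.1 (h0 ▸ hd))
  · have hr : ringExpChar k = ringChar k := by rw [ringExpChar]; exact max_eq_left hp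
    rw [hr] at h
    exact (CharP.char_ne_one k (ringChar k)) (Nat.eq_one_of_dvd_coprimes h (h0.trans hd) dvd_rfl)

end Groth.Agent.ThetaRepLib
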